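import Mathlib
import Groth.Agent.Lib.Helper7.ProjFlat.Main
import Groth.Agent.Lib.Helper7.InjFib.Basic

set_option linter.style.haveILetI false
set_option linter.unusedVariables false
set_option linter.unusedSectionVars false
set_option autoImplicit false
set_option backward.isDefEq.respectTransparency.types false
set_option synthInstance.maxHeartbeats 400000
set_option maxHeartbeats 1600000

universe u

/-! helper7: modules for which fibrewise injectivity of a map into a flat module implies universal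
injectivity; stability under isomorphisms and extensions. -/

open TensorProduct

namespace Groth.Agent.Helper7.UnivLoc

/-- a module `X` is good when every linear map from `X` to a flat module which is injective after
tensoring with every field is universally injective -/
def Good (R : Type u) [CommRing R] (X : Type u) [AddCommGroup X] [Module R X] : Prop :=
  ∀ (M : Type u) [AddCommGroup M] [Module R M] [Module.Flat R M] (w : X →ₗ[R] M),
    (∀ (K : Type u) [Field K] [Algebra R K], Function.Injective (w.lTensor K)) →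
    ∀ (Q : Type u) [AddCommGroup Q] [Module R Q], Function.Injective (w.lTensor Q)

variable {R : Type u} [CommRing R]

theorem lTensor_equiv_injective {X X' : Type u} [AddCommGroup X] [Module R X] [AddCommGroup X']
    [Module R X'] (e : X ≃ₗ[R] X') (Q : Type u) [AddCommGroup Q] [Module R Q] :
    Function.Injective (e.toLinearMap.lTensor Q) := by
  apply Function.LeftInverse.injective (g := e.symm.toLinearMap.lTensor Q)
  intro z
  rw [← LinearMap.comp_apply, ← LinearMap.lTensor_comp]
  have h : e.symm.toLinearMap ∘ₗ e.toLinearMap = LinearMap.id :=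
    LinearMap.ext fun x => e.symm_apply_apply x
  rw [h, LinearMap.lTensor_id, LinearMap.id_apply]

theorem Good.of_equiv {X X' : Type u} [AddCommGroup X] [Module R X] [AddCommGroup X']
    [Module R X'] (e : X ≃ₗ[R] X') (h : Good R X) : Good R X' := by
  intro M _ _ _ w hK Q _ _
  have h1 := h M (w ∘ₗ e.toLinearMap) (fun K _ _ => by
    rw [LinearMap.lTensor_comp, LinearMap.coe_comp]
    exact (hK K).comp (lTensor_equiv_injective e K)) Q
  rw [LinearMap.lTensor_comp, LinearMap.coe_comp] at h1
  exact Function.Injective.of_comp_right h1 (LinearMap.lTensor_surjective Q e.surjective)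

theorem Good.of_subsingleton {X : Type u} [AddCommGroup X] [Module R X] [Subsingleton X] :
    Good R X := by
  intro M _ _ _ w hK Q _ _
  have h0 : ∀ z : Q ⊗[R] X, z = 0 := by
    intro z
    induction z using TensorProduct.induction_on with
    | zero => rfl
    | tmul q x => rw [Subsingleton.elim x 0, TensorProduct.tmul_zero]
    | add a b ha hb => rw [ha, hb, add_zero]
  intro a b _
  rw [h0 a, h0 b]

/-- goodness passes to extensions with flat quotient -/
theorem Good.of_submodule {X : Type u} [AddCommGroup X] [Module R X] (P : Submodule R X)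
    [Module.Flat R (X ⧸ P)] (h₁ : Good R P) (h₃ : Good R (X ⧸ P)) : Good R X := by
  intro M _ _ _ w hK Q _ _
  have hι : ∀ (Q' : Type u) [AddCommGroup Q'] [Module R Q'],
      Function.Injective (P.subtype.lTensor Q') := fun Q' _ _ =>
    LinearMap.lTensor_injective_of_exact_of_flat P.mkQ (Submodule.mkQ_surjective P) P.subtype
      P.subtype_injective (LinearMap.exact_subtype_mkQ P) Q'
  obtain ⟨w₁, hw₁def⟩ : ∃ w₁ : P →ₗ[R] M, w₁ = w ∘ₗ P.subtype := ⟨_, rfl⟩
  have hw₁K : ∀ (K : Type u) [Field K] [Algebra R K], Function.Injective (w₁.lTensor K) := by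
    intro K _ _
    rw [hw₁def, LinearMap.lTensor_comp, LinearMap.coe_comp]
    exact (hK K).comp (hι K)
  have hw₁ := h₁ M w₁ hw₁K
  have hD : ∀ (J : Ideal R) (x : P), w₁ x ∈ J • (⊤ : Submodule R M) →
      x ∈ J • (⊤ : Submodule R P) := by
    intro J x hx
    rw [← ProjFlat.one_tmul_eq_zero_iff] at hx ⊢
    apply hw₁ (R ⧸ J)
    rw [LinearMap.lTensor_tmul, hx, map_zero]
  haveI : Module.Flat R (M ⧸ LinearMap.range w₁) :=
    InjFib.flat_quotient_range_of_forall_mem w₁ hD
  obtain ⟨P', hP'⟩ : ∃ P' : Submodule R M, P' = LinearMap.range w₁ := ⟨_, rfl⟩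
  haveI : Module.Flat R (M ⧸ P') := by rw [hP']; infer_instance
  have hle : P ≤ P'.comap w := by
    intro x hx
    rw [Submodule.mem_comap, hP']
    exact ⟨⟨x, hx⟩, by rw [hw₁def]; rfl⟩
  obtain ⟨w₃, hw₃def⟩ : ∃ w₃ : (X ⧸ P) →ₗ[R] (M ⧸ P'), w₃ = P.mapQ P' w hle := ⟨_, rfl⟩
  have hc : w₃ ∘ₗ P.mkQ = P'.mkQ ∘ₗ w := by
    rw [hw₃def]
    exact LinearMap.ext fun _ => rfl
  have hcomm : ∀ (Q' : Type u) [AddCommGroup Q'] [Module R Q'] (z : Q' ⊗[R] X),
      w₃.lTensor Q' (P.mkQ.lTensor Q' z) = P'.mkQ.lTensor Q' (w.lTensor Q' z) := by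
    intro Q' _ _ z
    rw [← LinearMap.comp_apply, ← LinearMap.lTensor_comp, hc, LinearMap.lTensor_comp,
      LinearMap.comp_apply]
  have hsub0 : P.mkQ ∘ₗ P.subtype = 0 := by
    ext x
    simp
  have hw₃K : ∀ (K : Type u) [Field K] [Algebra R K], Function.Injective (w₃.lTensor K) := by
    intro K _ _
    rw [injective_iff_map_eq_zero]
    intro z hz
    obtain ⟨z₂, rfl⟩ := LinearMap.lTensor_surjective K (Submodule.mkQ_surjective P) z
    have h2 : P'.mkQ.lTensor K (w.lTensor K z₂) = 0 := by
      rw [← hcomm]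
      exact hz
    obtain ⟨p, hp⟩ := (lTensor_exact K (LinearMap.exact_subtype_mkQ P')
      (Submodule.mkQ_surjective P') (w.lTensor K z₂)).mp h2
    have hrr : Function.Surjective (w₁.rangeRestrict) := LinearMap.surjective_rangeRestrict w₁
    obtain ⟨w₁', hw₁'⟩ : ∃ w₁' : P →ₗ[R] P', P'.subtype ∘ₗ w₁' = w₁ ∧ Function.Surjective w₁' := by
      subst hP'
      exact ⟨w₁.rangeRestrict, LinearMap.ext fun _ => rfl, hrr⟩
    obtain ⟨n, rfl⟩ := LinearMap.lTensor_surjective K hw₁'.2 p
    have h3 : w.lTensor K (P.subtype.lTensor K n) = w.lTensor K z₂ := by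
      rw [← hp, ← LinearMap.comp_apply, ← LinearMap.comp_apply, ← LinearMap.lTensor_comp,
        ← LinearMap.lTensor_comp, hw₁'.1, hw₁def]
    have h4 := hK K h3
    rw [← h4, ← LinearMap.comp_apply, ← LinearMap.lTensor_comp, hsub0, LinearMap.lTensor_zero,
      LinearMap.zero_apply]
  have hw₃ := h₃ (M ⧸ P') w₃ hw₃K
  rw [injective_iff_map_eq_zero]
  intro z hz
  have h1 : P.mkQ.lTensor Q z = 0 := by
    apply hw₃ Q
    rw [hcomm, hz, map_zero, map_zero]
  obtain ⟨n, rfl⟩ := (lTensor_exact Q (LinearMap.exact_subtype_mkQ P)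
    (Submodule.mkQ_surjective P) z).mp h1
  have h5 : w₁.lTensor Q n = 0 := by
    rw [hw₁def, LinearMap.lTensor_comp, LinearMap.comp_apply]
    exact hz
  have h6 : n = 0 := hw₁ Q (by rw [h5, map_zero])
  rw [h6, map_zero]

/-- goodness passes to the middle term of a short exact sequence with flat cokernel -/
theorem Good.of_exact {X₁ X₂ X₃ : Type u} [AddCommGroup X₁] [Module R X₁] [AddCommGroup X₂]
    [Module R X₂] [AddCommGroup X₃] [Module R X₃] (φ : X₁ →ₗ[R] X₂) (γ : X₂ →ₗ[R] X₃)
    (hφ : Function.Injective φ) (hγ : Function.Surjective γ) (hex : Function.Exact φ γ)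
    [Module.Flat R X₃] (h₁ : Good R X₁) (h₃ : Good R X₃) : Good R X₂ := by
  let e₁ : X₁ ≃ₗ[R] LinearMap.range φ := LinearEquiv.ofInjective φ hφ
  let e₃ : (X₂ ⧸ LinearMap.range φ) ≃ₗ[R] X₃ := hex.linearEquivOfSurjective hγ
  haveI : Module.Flat R (X₂ ⧸ LinearMap.range φ) := Module.Flat.of_linearEquiv e₃
  exact Good.of_submodule (LinearMap.range φ) (h₁.of_equiv e₁) (h₃.of_equiv e₃.symm)

end Groth.Agent.Helper7.UnivLoc
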