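import Mathlib
import Groth.Agent.Lib.Helper7.UnivLoc.Good

set_option linter.style.haveILetI false
set_option linter.unusedVariables false
set_option linter.unusedSectionVars false
set_option autoImplicit false
set_option backward.isDefEq.respectTransparency.types false
set_option synthInstance.maxHeartbeats 400000
set_option maxHeartbeats 1600000

universe u

/-! helper7: the base case of the devissage: localizations of a quotient ring which is free over the
base with geometrically integral fibres are good (content argument). -/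

open TensorProduct

namespace Groth.Agent.Helper7.UnivLoc

/-- a ring over `F` which is free as a module and all of whose fibres over fields are domains -/
structure BaseOK (F W' : Type u) [CommRing F] [CommRing W'] [Algebra F W'] : Prop where
  free : Module.Free F W'
  dom : ∀ (K : Type u) [Field K] [Algebra F K], IsDomain (K ⊗[F] W')

theorem BaseOK.of_algEquiv {F W₁ W₂ : Type u} [CommRing F] [CommRing W₁] [CommRing W₂]
    [Algebra F W₁] [Algebra F W₂] (e : W₁ ≃ₐ[F] W₂) (h : BaseOK F W₁) : BaseOK F W₂ where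
  free := by
    haveI := h.free
    exact Module.Free.of_equiv e.toLinearEquiv
  dom := fun K _ _ => by
    haveI := h.dom K
    exact (Algebra.TensorProduct.congr (AlgEquiv.refl : K ≃ₐ[K] K) e.symm).toMulEquiv.isDomain
      (K ⊗[F] W₁)

section Lemmas

variable {F : Type u} [CommRing F]

theorem lid_lTensor' {N₁ N₂ : Type u} [AddCommGroup N₁] [Module F N₁] [AddCommGroup N₂]
    [Module F N₂] (f : N₁ →ₗ[F] N₂) (w : F ⊗[F] N₁) :
    TensorProduct.lid F N₂ (f.lTensor F w) = f (TensorProduct.lid F N₁ w) := by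
  induction w using TensorProduct.induction_on with
  | zero => simp
  | tmul r n => simp
  | add a b ha hb => simp only [map_add, ha, hb]

/-- naturality of the coordinates with respect to the second factor -/
theorem equivFinsuppOfBasisLeft_lTensor {S' : Type u} [AddCommGroup S'] [Module F S'] {ι : Type*}
    [DecidableEq ι] (b : Module.Basis ι F S') {N₁ N₂ : Type u} [AddCommGroup N₁] [Module F N₁]
    [AddCommGroup N₂] [Module F N₂] (f : N₁ →ₗ[F] N₂) (z : S' ⊗[F] N₁) :
    TensorProduct.equivFinsuppOfBasisLeft b (f.lTensor S' z) =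
      Finsupp.mapRange.linearMap f (TensorProduct.equivFinsuppOfBasisLeft b z) := by
  ext i
  have h : ((b.coord i).rTensor N₂) ((f.lTensor S') z) =
      (f.lTensor F) (((b.coord i).rTensor N₁) z) := by
    rw [← LinearMap.comp_apply, LinearMap.rTensor_comp_lTensor, ← LinearMap.lTensor_comp_rTensor,
      LinearMap.comp_apply]
  rw [TensorProduct.equivFinsuppOfBasisLeft_apply, Finsupp.mapRange.linearMap_apply,
    Finsupp.mapRange_apply, TensorProduct.equivFinsuppOfBasisLeft_apply, h, lid_lTensor']

variable {W : Type u} [CommRing W] [Algebra F W]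

theorem lTensor_smul_left {X V₁ V₂ : Type u} [AddCommGroup X] [Module W X] [Module F X]
    [IsScalarTower F W X] [AddCommGroup V₁] [Module F V₁] [AddCommGroup V₂] [Module F V₂]
    (f : V₁ →ₗ[F] V₂) (s : W) (z : X ⊗[F] V₁) :
    f.lTensor X (s • z) = s • f.lTensor X z := by
  induction z using TensorProduct.induction_on with
  | zero => simp
  | tmul x v =>
    rw [TensorProduct.smul_tmul', LinearMap.lTensor_tmul, LinearMap.lTensor_tmul,
      TensorProduct.smul_tmul']
  | add a b ha hb => rw [smul_add, map_add, ha, hb, map_add, smul_add]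

theorem lTensor_rTensor_comm {S' X : Type u} [AddCommGroup S'] [Module W S'] [Module F S']
    [IsScalarTower F W S'] [AddCommGroup X] [Module W X] [Module F X] [IsScalarTower F W X]
    (j : S' →ₗ[W] X) {V₁ V₂ : Type u} [AddCommGroup V₁] [Module F V₁] [AddCommGroup V₂]
    [Module F V₂] (f : V₁ →ₗ[F] V₂) (z : S' ⊗[F] V₁) :
    f.lTensor X (AlgebraTensorModule.rTensor F V₁ j z) =
      AlgebraTensorModule.rTensor F V₂ j (f.lTensor S' z) := by
  induction z using TensorProduct.induction_on with
  | zero => simp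
  | tmul s v =>
    rw [AlgebraTensorModule.rTensor_tmul, LinearMap.lTensor_tmul, LinearMap.lTensor_tmul,
      AlgebraTensorModule.rTensor_tmul]
  | add a b ha hb => simp only [map_add, ha, hb]

theorem smul_eq_zero_of_mem (r : Ideal W) {Q' : Type u} [AddCommGroup Q'] [Module F Q'] (s : W)
    (hs : s ∈ r ⊔ (Module.annihilator F Q').map (algebraMap F W)) (z : (W ⧸ r) ⊗[F] Q') :
    s • z = 0 := by
  have h : r ⊔ (Module.annihilator F Q').map (algebraMap F W) ≤
      Module.annihilator W ((W ⧸ r) ⊗[F] Q') := by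
    refine sup_le ?_ ?_
    · intro a ha
      rw [Module.mem_annihilator]
      intro z
      induction z using TensorProduct.induction_on with
      | zero => simp
      | tmul w q =>
        have h0 : a • w = 0 := by
          obtain ⟨w, rfl⟩ := Ideal.Quotient.mk_surjective w
          rw [Algebra.smul_def, Ideal.Quotient.algebraMap_eq, ← map_mul,
            Ideal.Quotient.eq_zero_iff_mem]
          exact r.mul_mem_right w ha
        rw [TensorProduct.smul_tmul', h0, TensorProduct.zero_tmul]
      | add x y hx hy => rw [smul_add, hx, hy, add_zero]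
    · rw [Ideal.map_le_iff_le_comap]
      intro a ha
      rw [Ideal.mem_comap, Module.mem_annihilator]
      intro z
      rw [algebraMap_smul]
      induction z using TensorProduct.induction_on with
      | zero => simp
      | tmul w q =>
        rw [← TensorProduct.tmul_smul, Module.mem_annihilator.mp ha q, TensorProduct.tmul_zero]
      | add x y hx hy => rw [smul_add, hx, hy, add_zero]
  exact Module.mem_annihilator.mp (h hs) z

theorem smul_eq_mul_tensor (r : Ideal W) {K : Type u} [CommRing K] [Algebra F K] (s : W)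
    (z : (W ⧸ r) ⊗[F] K) :
    s • z = ((Ideal.Quotient.mk r s) ⊗ₜ[F] (1 : K)) * z := by
  induction z using TensorProduct.induction_on with
  | zero => simp
  | tmul a k =>
    rw [TensorProduct.smul_tmul', Algebra.TensorProduct.tmul_mul_tmul, one_mul, Algebra.smul_def,
      Ideal.Quotient.algebraMap_eq]
  | add a b ha hb => rw [smul_add, ha, hb, mul_add]

theorem exists_functional_of_annihilator_le {Q' : Type u} [AddCommGroup Q'] [Module F Q']
    [Module.Finite F Q'] (P : Ideal F) [P.IsPrime] (h : Module.annihilator F Q' ≤ P) :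
    ∃ θ : Q' →ₗ[F] P.ResidueField, θ ≠ 0 := by
  have hsupp : (⟨P, inferInstance⟩ : PrimeSpectrum F) ∈ Module.support F Q' :=
    Module.mem_support_iff_of_finite.mpr h
  haveI hnt : Nontrivial (P.ResidueField ⊗[F] Q') :=
    (Module.mem_support_iff_nontrivial_residueField_tensorProduct ⟨P, inferInstance⟩).mp hsupp
  obtain ⟨v, hv⟩ := exists_ne (0 : P.ResidueField ⊗[F] Q')
  obtain ⟨φ, hφ⟩ := Module.Projective.exists_dual_ne_zero P.ResidueField hv
  refine ⟨(φ.restrictScalars F) ∘ₗ (TensorProduct.mk F P.ResidueField Q' 1), fun h0 => hφ ?_⟩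
  have h1 : ∀ q : Q', φ ((1 : P.ResidueField) ⊗ₜ[F] q) = 0 := fun q => by
    have := LinearMap.congr_fun h0 q
    simpa using this
  have hall : ∀ v' : P.ResidueField ⊗[F] Q', φ v' = 0 := by
    intro v'
    induction v' using TensorProduct.induction_on with
    | zero => simp
    | tmul k q =>
      have hk : k ⊗ₜ[F] q = k • ((1 : P.ResidueField) ⊗ₜ[F] q) := by
        rw [TensorProduct.smul_tmul', smul_eq_mul, mul_one]
      rw [hk, map_smul, h1, smul_zero]
    | add a b ha hb => rw [map_add, ha, hb, add_zero]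
  exact hall v

end Lemmas

/-- the base case: a localization of `W ⧸ r` is good when `W ⧸ r` is free over the base with
geometrically integral fibres -/
theorem bcase {F W : Type u} [CommRing F] [CommRing W] [Algebra F W] (r : Ideal W)
    (hok : BaseOK F (W ⧸ r)) (T : Submonoid W) {X : Type u} [AddCommGroup X] [Module W X]
    [Module F X] [IsScalarTower F W X] (j : (W ⧸ r) →ₗ[W] X) [IsLocalizedModule T j] :
    Good F X := by
  classical
  intro M _ _ _ u hK Q _ _
  rw [LinearMap.lTensor_inj_iff_rTensor_inj]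
  have hK' : ∀ (K : Type u) [Field K] [Algebra F K], Function.Injective (u.rTensor K) :=
    fun K _ _ => (LinearMap.lTensor_inj_iff_rTensor_inj K u).mp (hK K)
  rw [injective_iff_map_eq_zero]
  intro x hx
  by_contra hx0
  haveI := hok.free
  obtain ⟨b, -⟩ : ∃ b : Module.Basis (Module.Free.ChooseBasisIndex F (W ⧸ r)) F (W ⧸ r), True :=
    ⟨Module.Free.chooseBasis F (W ⧸ r), trivial⟩
  -- elements of `T` act bijectively on the localized modules
  have hinjt : ∀ (V : Type u) [AddCommGroup V] [Module F V] (s : T) (z : X ⊗[F] V),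
      (s : W) • z = 0 → z = 0 := by
    intro V _ _ s z hz
    have h1 := IsLocalizedModule.smul_injective (AlgebraTensorModule.rTensor F V j) s
    apply h1
    show s • z = s • (0 : X ⊗[F] V)
    rw [smul_zero, Submonoid.smul_def]
    exact hz
  obtain ⟨⟨y, t⟩, hyt⟩ := IsLocalizedModule.surj T (AlgebraTensorModule.rTensor F Q j) x
  replace hyt : (t : W) • x = AlgebraTensorModule.rTensor F Q j y := by
    rw [← Submonoid.smul_def]
    exact hyt
  -- coordinates of `y`
  obtain ⟨ζ, hζ⟩ : ∃ ζ : (Module.Free.ChooseBasisIndex F (W ⧸ r)) →₀ Q,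
      ζ = TensorProduct.equivFinsuppOfBasisLeft b y := ⟨_, rfl⟩
  obtain ⟨Q', hQ'⟩ : ∃ Q' : Submodule F Q, Q' = Submodule.span F (Set.range ζ) := ⟨_, rfl⟩
  have hmemQ' : ∀ i, ζ i ∈ Q' := fun i => by
    rw [hQ']
    exact Submodule.subset_span ⟨i, rfl⟩
  haveI : Module.Finite F Q' := Module.Finite.iff_fg.mpr (by
    rw [hQ']
    exact Submodule.fg_span ζ.finite_range)
  let ζ' : (Module.Free.ChooseBasisIndex F (W ⧸ r)) →₀ Q' :=
    Finsupp.onFinset ζ.support (fun i => ⟨ζ i, hmemQ' i⟩) (by
      intro i hi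
      rw [Finsupp.mem_support_iff]
      intro h0
      apply hi
      exact Subtype.ext h0)
  have hζ' : Finsupp.mapRange.linearMap Q'.subtype ζ' = ζ := by
    ext i
    rfl
  obtain ⟨y', hy'def⟩ : ∃ y' : (W ⧸ r) ⊗[F] Q',
      y' = (TensorProduct.equivFinsuppOfBasisLeft b).symm ζ' := ⟨_, rfl⟩
  have hcy' : TensorProduct.equivFinsuppOfBasisLeft b y' = ζ' := by
    rw [hy'def, LinearEquiv.apply_symm_apply]
  have hy' : Q'.subtype.lTensor (W ⧸ r) y' = y := by
    apply (TensorProduct.equivFinsuppOfBasisLeft (N := Q) b).injective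
    rw [equivFinsuppOfBasisLeft_lTensor, hcy', hζ', hζ]
  -- the element `x'` over `Q'`
  obtain ⟨x', hx't⟩ : ∃ x' : X ⊗[F] Q', (t : W) • x' = AlgebraTensorModule.rTensor F Q' j y' := by
    have hu := (Module.End.isUnit_iff _).mp
      (IsLocalizedModule.map_units (AlgebraTensorModule.rTensor F Q' j) t)
    obtain ⟨x', hx'⟩ := hu.surjective (AlgebraTensorModule.rTensor F Q' j y')
    exact ⟨x', hx'⟩
  have hx' : Q'.subtype.lTensor X x' = x := by
    have h1 : (t : W) • (Q'.subtype.lTensor X x') = (t : W) • x := by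
      rw [← lTensor_smul_left, hx't, lTensor_rTensor_comm, hy', hyt]
    have h2 := hinjt Q t (Q'.subtype.lTensor X x' - x) (by rw [smul_sub, h1, sub_self])
    exact sub_eq_zero.mp h2
  have hux' : u.rTensor Q' x' = 0 := by
    apply Module.Flat.lTensor_preserves_injective_linearMap (M := M) Q'.subtype
      Q'.subtype_injective
    rw [map_zero, ← LinearMap.comp_apply, LinearMap.lTensor_comp_rTensor,
      ← LinearMap.rTensor_comp_lTensor, LinearMap.comp_apply, hx', hx]
  have hx'0 : x' ≠ 0 := fun h => hx0 (by rw [← hx', h, map_zero])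
  -- a prime of `W` avoiding `T`
  have hdisj : Disjoint ((r ⊔ (Module.annihilator F Q').map (algebraMap F W) : Ideal W) : Set W)
      (T : Set W) := by
    rw [Set.disjoint_left]
    intro s hsJ hsT
    apply hx'0
    apply hinjt Q' t x'
    apply hinjt Q' ⟨s, hsT⟩ ((t : W) • x')
    show s • ((t : W) • x') = 0
    rw [hx't, ← map_smul, smul_eq_zero_of_mem r s hsJ y', map_zero]
  obtain ⟨𝔮, h𝔮, hJ𝔮, h𝔮T⟩ := Ideal.exists_le_prime_disjoint _ T hdisj
  haveI := h𝔮
  obtain ⟨𝔓, h𝔓⟩ : ∃ 𝔓 : Ideal F, 𝔓 = 𝔮.comap (algebraMap F W) := ⟨_, rfl⟩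
  haveI : 𝔓.IsPrime := by
    rw [h𝔓]
    exact Ideal.comap_isPrime _ _
  have hann : Module.annihilator F Q' ≤ 𝔓 := by
    rw [h𝔓]
    exact Ideal.le_comap_of_map_le (le_sup_right.trans hJ𝔮)
  obtain ⟨θ, hθ⟩ := exists_functional_of_annihilator_le 𝔓 hann
  -- the image of `y'` in the fibre is non zero
  have hz0 : θ.lTensor (W ⧸ r) y' ≠ 0 := by
    intro h0
    have h1 : Finsupp.mapRange.linearMap θ ζ' = 0 := by
      have h2 := equivFinsuppOfBasisLeft_lTensor b θ y'
      rw [h0, map_zero, hcy'] at h2
      exact h2.symm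
    apply hθ
    have hker : Q' ≤ Submodule.map Q'.subtype (LinearMap.ker θ) := by
      refine hQ'.le.trans (Submodule.span_le.mpr ?_)
      rintro _ ⟨i, rfl⟩
      refine ⟨⟨ζ i, hmemQ' i⟩, ?_, rfl⟩
      have h3 := DFunLike.congr_fun h1 i
      exact h3
    ext q
    obtain ⟨q', hq', hq'e⟩ := hker q.2
    have hqq : q' = q := Subtype.ext hq'e
    rw [hqq] at hq'
    exact hq'
  haveI := hok.dom 𝔓.ResidueField
  haveI hdomK : IsDomain ((W ⧸ r) ⊗[F] 𝔓.ResidueField) :=
    (Algebra.TensorProduct.comm F (W ⧸ r) 𝔓.ResidueField).toMulEquiv.isDomain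
      (𝔓.ResidueField ⊗[F] (W ⧸ r))
  -- elements of `T` do not vanish in the fibre
  have hr𝔮 : r ≤ 𝔮 := le_sup_left.trans hJ𝔮
  let φ : (W ⧸ r) →ₐ[F] 𝔮.ResidueField :=
    Ideal.Quotient.liftₐ r (IsScalarTower.toAlgHom F W 𝔮.ResidueField) (fun a ha => by
      rw [IsScalarTower.coe_toAlgHom']
      exact Ideal.algebraMap_residueField_eq_zero.mpr (hr𝔮 ha))
  let ρ : 𝔓.ResidueField →ₐ[F] 𝔮.ResidueField :=
    Ideal.ResidueField.mapₐ 𝔓 𝔮 (Algebra.ofId F W) h𝔓
  have hTne : ∀ s : T, (Ideal.Quotient.mk r (s : W)) ⊗ₜ[F] (1 : 𝔓.ResidueField) ≠ 0 := by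
    intro s h0
    have h1 : Algebra.TensorProduct.productMap φ ρ
        ((Ideal.Quotient.mk r (s : W)) ⊗ₜ[F] (1 : 𝔓.ResidueField)) = 0 := by
      rw [h0, map_zero]
    rw [Algebra.TensorProduct.productMap_apply_tmul, map_one, mul_one] at h1
    have h2 : φ (Ideal.Quotient.mk r (s : W)) = algebraMap W 𝔮.ResidueField s := by
      simp [φ]
    rw [h2, Ideal.algebraMap_residueField_eq_zero] at h1
    exact Set.disjoint_left.mp h𝔮T h1 s.2
  have hfinal : θ.lTensor X x' ≠ 0 := by
    intro h0
    have h1 : (AlgebraTensorModule.rTensor F 𝔓.ResidueField j) (θ.lTensor (W ⧸ r) y') = 0 := by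
      rw [← lTensor_rTensor_comm, ← hx't, lTensor_smul_left, h0, smul_zero]
    obtain ⟨s, hs⟩ := (IsLocalizedModule.eq_zero_iff T
      (AlgebraTensorModule.rTensor F 𝔓.ResidueField j)).mp h1
    rw [Submonoid.smul_def, smul_eq_mul_tensor] at hs
    rcases mul_eq_zero.mp hs with h | h
    · exact hTne s h
    · exact hz0 h
  apply hfinal
  apply hK' 𝔓.ResidueField
  rw [map_zero, ← LinearMap.comp_apply, LinearMap.rTensor_comp_lTensor,
    ← LinearMap.lTensor_comp_rTensor, LinearMap.comp_apply, hux', map_zero]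

end Groth.Agent.Helper7.UnivLoc
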