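import Mathlib
import Groth.Agent.Lib.Helper7.UnivLoc.BaseCase
import Groth.Agent.Lib.Helper7.FlatAtBC.Main
import Groth.Agent.Lib.Helper4.RelEffCartier
import Groth.Agent.Lib.Helper8.GeomAlgClosed

set_option linter.style.haveILetI false
set_option linter.unusedVariables false
set_option linter.unusedSectionVars false
set_option autoImplicit false
set_option backward.isDefEq.respectTransparency.types false
set_option synthInstance.maxHeartbeats 400000
set_option maxHeartbeats 1600000

universe u

/-! helper7: devissage along a prime filtration over a Noetherian ring `D`, for the base change to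
a flat `D`-algebra `W` whose quotients by extended primes are free with geometrically integral
fibres over a ring `F`; the case `W = F ⊗[Ω] D` with `Ω` an algebraically closed field. -/

open TensorProduct

namespace Groth.Agent.Helper7.UnivLoc

/-- the property propagated by the devissage: flatness over `F`, and goodness of every
localization -/
def DevProp (F W : Type u) [CommRing F] [CommRing W] [Algebra F W] (G : Type u) [AddCommGroup G]
    [Module W G] [Module F G] [IsScalarTower F W G] : Prop :=
  Module.Flat F G ∧ ∀ (T : Submonoid W) (X : Type u) [AddCommGroup X] [Module W X] [Module F X]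
    [IsScalarTower F W X] (j : G →ₗ[W] X) [IsLocalizedModule T j], Good F X

section General

variable {F W D : Type u} [CommRing F] [CommRing W] [CommRing D] [Algebra F W] [Algebra D W]

theorem devProp_of_subsingleton (G : Type u) [AddCommGroup G] [Module W G] [Module F G]
    [IsScalarTower F W G] [Subsingleton G] : DevProp F W G := by
  refine ⟨?_, ?_⟩
  · haveI := Module.Free.of_subsingleton F G
    infer_instance
  · intro T X _ _ _ _ j _
    have h0 : ∀ x : X, x = 0 := by
      intro x
      obtain ⟨⟨m, s⟩, h⟩ := IsLocalizedModule.surj T j x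
      have hm : m = 0 := Subsingleton.elim m 0
      apply IsLocalizedModule.smul_injective j s
      show s • x = s • (0 : X)
      rw [smul_zero, h, hm, map_zero]
    haveI : Subsingleton X := ⟨fun a b => by rw [h0 a, h0 b]⟩
    exact Good.of_subsingleton

theorem devProp_quotient (q : Ideal D) (hok : BaseOK F (W ⧸ q.map (algebraMap D W)))
    {N : Type u} [AddCommGroup N] [Module D N] (e : N ≃ₗ[D] D ⧸ q) :
    DevProp F W (W ⊗[D] N) := by
  let ε : (W ⧸ q.map (algebraMap D W)) ≃ₗ[W] W ⊗[D] N :=
    (Algebra.TensorProduct.quotIdealMapEquivTensorQuot W q).toLinearEquiv ≪≫ₗ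
      (AlgebraTensorModule.congr (LinearEquiv.refl W W) e.symm)
  refine ⟨?_, ?_⟩
  · haveI := hok.free
    exact Module.Flat.of_linearEquiv (ε.symm.restrictScalars F)
  · intro T X _ _ _ _ j _
    exact bcase (q.map (algebraMap D W)) hok T (j ∘ₗ ε.toLinearMap)

variable [Module.Flat D W]

theorem devProp_exact {N₁ N₂ N₃ : Type u} [AddCommGroup N₁] [Module D N₁] [AddCommGroup N₂]
    [Module D N₂] [AddCommGroup N₃] [Module D N₃] (f : N₁ →ₗ[D] N₂) (g : N₂ →ₗ[D] N₃)
    (hf : Function.Injective f) (hg : Function.Surjective g) (hfg : Function.Exact f g)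
    (h₁ : DevProp F W (W ⊗[D] N₁)) (h₃ : DevProp F W (W ⊗[D] N₃)) :
    DevProp F W (W ⊗[D] N₂) := by
  have hfW : Function.Injective (f.baseChange W) := by
    rw [LinearMap.baseChange_eq_ltensor]
    exact Module.Flat.lTensor_preserves_injective_linearMap f hf
  have hgW : Function.Surjective (g.baseChange W) := by
    rw [LinearMap.baseChange_eq_ltensor]
    exact LinearMap.lTensor_surjective W hg
  have hex : Function.Exact (f.baseChange W) (g.baseChange W) := by
    rw [LinearMap.baseChange_eq_ltensor, LinearMap.baseChange_eq_ltensor]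
    exact lTensor_exact W hfg hg
  haveI := h₁.1
  haveI := h₃.1
  refine ⟨?_, ?_⟩
  · exact Groth.Agent.Helper4.FlatExact.flat_of_exact ((f.baseChange W).restrictScalars F)
      ((g.baseChange W).restrictScalars F) hfW hgW hex
  · intro T X _ _ _ _ j _
    have hφ := IsLocalizedModule.map_injective T (LocalizedModule.mkLinearMap T (W ⊗[D] N₁)) j
      (f.baseChange W) hfW
    have hγ := IsLocalizedModule.map_surjective T j (LocalizedModule.mkLinearMap T (W ⊗[D] N₃))
      (g.baseChange W) hgW
    have hex' := IsLocalizedModule.map_exact T (LocalizedModule.mkLinearMap T (W ⊗[D] N₁)) j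
      (LocalizedModule.mkLinearMap T (W ⊗[D] N₃)) (f.baseChange W) (g.baseChange W) hex
    haveI : Module.Flat F (LocalizedModule T (W ⊗[D] N₃)) :=
      FlatAtBC.flat_of_isLocalizedModule (A := F) (B := W) (N := W ⊗[D] N₃)
        (N' := LocalizedModule T (W ⊗[D] N₃)) T (LocalizedModule.mkLinearMap T (W ⊗[D] N₃))
    have G₁ : Good F (LocalizedModule T (W ⊗[D] N₁)) :=
      h₁.2 T _ (LocalizedModule.mkLinearMap T (W ⊗[D] N₁))
    have G₃ : Good F (LocalizedModule T (W ⊗[D] N₃)) :=
      h₃.2 T _ (LocalizedModule.mkLinearMap T (W ⊗[D] N₃))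
    exact Good.of_exact
      ((IsLocalizedModule.map T (LocalizedModule.mkLinearMap T (W ⊗[D] N₁)) j
        (f.baseChange W)).restrictScalars F)
      ((IsLocalizedModule.map T j (LocalizedModule.mkLinearMap T (W ⊗[D] N₃))
        (g.baseChange W)).restrictScalars F) hφ hγ hex' G₁ G₃

/-- the devissage: over a Noetherian ring `D`, for a flat `D`-algebra `W` whose quotients by
extended primes are `BaseOK` over `F`, every base change of a finite `D`-module has the
propagated property -/
theorem devissage [IsNoetherianRing D]
    (hq : ∀ q : Ideal D, q.IsPrime → BaseOK F (W ⧸ q.map (algebraMap D W)))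
    (E : Type u) [AddCommGroup E] [Module D E] [hE : Module.Finite D E] :
    DevProp F W (W ⊗[D] E) := by
  induction hE using IsNoetherianRing.induction_on_isQuotientEquivQuotientPrime D with
  | subsingleton N =>
    have h0 : ∀ z : W ⊗[D] N, z = 0 := by
      intro z
      induction z using TensorProduct.induction_on with
      | zero => rfl
      | tmul w n => rw [Subsingleton.elim n 0, TensorProduct.tmul_zero]
      | add a b ha hb => rw [ha, hb, add_zero]
    haveI : Subsingleton (W ⊗[D] N) := ⟨fun a b => by rw [h0 a, h0 b]⟩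
    exact devProp_of_subsingleton _
  | quotient N p e => exact devProp_quotient p.asIdeal (hq p.asIdeal p.isPrime) e
  | exact N₁ N₂ N₃ f g hf hg hfg h₁ h₃ => exact devProp_exact f g hf hg hfg h₁ h₃

end General

section Concrete

attribute [local instance] Algebra.TensorProduct.rightAlgebra

variable (Ω : Type u) [Field Ω] [IsAlgClosed Ω] (F D : Type u) [CommRing F] [CommRing D]
  [Algebra Ω F] [Algebra Ω D]

theorem flat_right : Module.Flat D (F ⊗[Ω] D) := by
  let eD : (F ⊗[Ω] D) ≃ₗ[D] D ⊗[Ω] F :=
    AddEquiv.toLinearEquiv (Algebra.TensorProduct.comm Ω F D).toRingEquiv.toAddEquiv (fun d w => by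
      show (Algebra.TensorProduct.comm Ω F D) (d • w) = d • (Algebra.TensorProduct.comm Ω F D) w
      rw [Algebra.smul_def, Algebra.smul_def, map_mul,
        Algebra.TensorProduct.right_algebraMap_apply, Algebra.TensorProduct.comm_tmul,
        Algebra.TensorProduct.algebraMap_apply, Algebra.algebraMap_self, RingHom.id_apply])
  exact Module.Flat.of_linearEquiv eD

theorem baseOK_tensor (q : Ideal D) [q.IsPrime] :
    BaseOK F ((F ⊗[Ω] D) ⧸ q.map (algebraMap D (F ⊗[Ω] D))) := by
  have h0 : BaseOK F (F ⊗[Ω] (D ⧸ q)) :=
    { free := inferInstance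
      dom := fun K _ _ => by
        letI : Algebra Ω K := Algebra.compHom K (algebraMap Ω F)
        haveI : IsScalarTower Ω F K := IsScalarTower.of_algebraMap_eq (fun _ => rfl)
        haveI : IsDomain (K ⊗[Ω] (D ⧸ q)) :=
          Groth.Agent.Helper8.isDomain_tensor_of_isAlgClosed K (D ⧸ q)
        exact (Algebra.TensorProduct.cancelBaseChange Ω F K K (D ⧸ q)).toMulEquiv.isDomain
          (K ⊗[Ω] (D ⧸ q)) }
  have hI : q.map (Algebra.TensorProduct.includeRight : D →ₐ[Ω] F ⊗[Ω] D) =
      q.map (algebraMap D (F ⊗[Ω] D)) := rfl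
  exact (h0.of_algEquiv (Algebra.TensorProduct.tensorQuotientEquiv (R := Ω) F D F q)).of_algEquiv
    (Ideal.quotientEquivAlgOfEq F hI)

theorem devissage_tensor [IsNoetherianRing D] (E : Type u) [AddCommGroup E] [Module D E]
    [Module.Finite D E] : DevProp F (F ⊗[Ω] D) ((F ⊗[Ω] D) ⊗[D] E) := by
  haveI := flat_right Ω F D
  exact devissage (fun q hq => by
    haveI := hq
    exact baseOK_tensor Ω F D q) E

end Concrete

end Groth.Agent.Helper7.UnivLoc
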