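import Mathlib
import Groth.Agent.Lib.Helper7.UnivLoc.Good
import Groth.Agent.Lib.Helper3.ColimFlat8

set_option linter.style.haveILetI false
set_option linter.unusedVariables false
set_option linter.unusedSectionVars false
set_option autoImplicit false
set_option backward.isDefEq.respectTransparency.types false
set_option synthInstance.maxHeartbeats 400000
set_option maxHeartbeats 1600000

universe u

/-! helper7: reduction steps for the universal injectivity criterion: fibres at residue fields versus
all fields, base change of goodness, annihilator primes over a Noetherian subring, socle elements in a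
flat tensor product, detection of torsion free elements in a field, descent of finitely presented
modules from a localization. -/

open TensorProduct

namespace Groth.Agent.Helper7.UnivLoc

/-- fibrewise injectivity after a base change -/
theorem lTensor_baseChange_injective_iff {A F : Type u} [CommRing A] [CommRing F] [Algebra A F]
    {N M : Type u} [AddCommGroup N] [Module A N] [AddCommGroup M] [Module A M] (u : N →ₗ[A] M)
    (K : Type u) [CommRing K] [Algebra F K] [Algebra A K] [IsScalarTower A F K] :
    Function.Injective ((u.baseChange F).lTensor K) ↔ Function.Injective (u.lTensor K) := by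
  have key : ∀ z : K ⊗[F] (F ⊗[A] N),
      u.lTensor K (AlgebraTensorModule.cancelBaseChange A F K K N z) =
        AlgebraTensorModule.cancelBaseChange A F K K M ((u.baseChange F).lTensor K z) := by
    intro z
    induction z using TensorProduct.induction_on with
    | zero => simp
    | tmul k w =>
      induction w using TensorProduct.induction_on with
      | zero => simp
      | tmul f n => simp
      | add a b ha hb => simp only [TensorProduct.tmul_add, map_add, ha, hb]
    | add a b ha hb => simp only [map_add, ha, hb]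
  constructor
  · intro h a b hab
    have ha := key ((AlgebraTensorModule.cancelBaseChange A F K K N).symm a)
    have hb := key ((AlgebraTensorModule.cancelBaseChange A F K K N).symm b)
    rw [LinearEquiv.apply_symm_apply] at ha hb
    rw [ha, hb] at hab
    have h1 := h ((AlgebraTensorModule.cancelBaseChange A F K K M).injective hab)
    exact (AlgebraTensorModule.cancelBaseChange A F K K N).symm.injective h1
  · intro h a b hab
    apply (AlgebraTensorModule.cancelBaseChange A F K K N).injective
    apply h
    rw [key, key, hab]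

/-- injectivity on the fibres at all residue fields gives injectivity after tensoring with every
field -/
theorem injective_lTensor_of_residueField {A : Type u} [CommRing A] {N M : Type u}
    [AddCommGroup N] [Module A N] [AddCommGroup M] [Module A M] (u : N →ₗ[A] M)
    (h : ∀ (p : Ideal A) [p.IsPrime], Function.Injective (u.lTensor p.ResidueField))
    (K : Type u) [Field K] [Algebra A K] : Function.Injective (u.lTensor K) := by
  obtain ⟨p, hp⟩ : ∃ p : Ideal A, p = RingHom.ker (algebraMap A K) := ⟨_, rfl⟩
  haveI : p.IsPrime := by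
    rw [hp]
    exact RingHom.ker_isPrime _
  let ρ : p.ResidueField →+* K := Ideal.ResidueField.lift p (algebraMap A K) hp.le (by
    intro x hx
    rw [Submonoid.mem_comap, IsUnit.mem_submonoid_iff]
    refine IsUnit.mk0 _ (fun h0 => hx ?_)
    rw [hp]
    exact RingHom.mem_ker.mpr h0)
  letI : Algebra p.ResidueField K := ρ.toAlgebra
  haveI : IsScalarTower A p.ResidueField K := IsScalarTower.of_algebraMap_eq (fun a => by
    show algebraMap A K a = ρ (algebraMap A p.ResidueField a)
    rw [Ideal.ResidueField.lift_algebraMap])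
  rw [← lTensor_baseChange_injective_iff (F := p.ResidueField) u K]
  exact Module.Flat.lTensor_preserves_injective_linearMap (M := K)
    (u.baseChange p.ResidueField) (by
      rw [LinearMap.baseChange_eq_ltensor]
      exact h p)

/-- goodness of the base change kills the base change of elements of the kernel -/
theorem tmul_eq_zero_of_good_baseChange {A F : Type u} [CommRing A] [CommRing F] [Algebra A F]
    {N M : Type u} [AddCommGroup N] [Module A N] [AddCommGroup M] [Module A M] [Module.Flat A M]
    (u : N →ₗ[A] M)
    (hK : ∀ (K : Type u) [Field K] [Algebra A K], Function.Injective (u.lTensor K))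
    (hgood : Good F (F ⊗[A] N)) (Q : Type u) [AddCommGroup Q] [Module A Q] (x : N ⊗[A] Q)
    (hx : u.rTensor Q x = 0) : (1 : F) ⊗ₜ[A] x = (0 : F ⊗[A] (N ⊗[A] Q)) := by
  have hfib : ∀ (K : Type u) [Field K] [Algebra F K],
      Function.Injective ((u.baseChange F).lTensor K) := by
    intro K _ _
    letI : Algebra A K := Algebra.compHom K (algebraMap A F)
    haveI : IsScalarTower A F K := IsScalarTower.of_algebraMap_eq (fun _ => rfl)
    rw [lTensor_baseChange_injective_iff]
    exact hK K
  have hinj := hgood (F ⊗[A] M) (u.baseChange F) hfib (F ⊗[A] Q)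
  rw [LinearMap.lTensor_inj_iff_rTensor_inj] at hinj
  have key : ∀ z : F ⊗[A] (N ⊗[A] Q),
      (u.baseChange F).rTensor (F ⊗[A] Q) (AlgebraTensorModule.distribBaseChange A F N Q z) =
        AlgebraTensorModule.distribBaseChange A F M Q ((u.rTensor Q).baseChange F z) := by
    intro z
    induction z using TensorProduct.induction_on with
    | zero => simp
    | tmul a w =>
      induction w using TensorProduct.induction_on with
      | zero => simp
      | tmul n q => simp
      | add c d hc hd => simp only [TensorProduct.tmul_add, map_add, hc, hd]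
    | add c d hc hd => simp only [map_add, hc, hd]
  have h1 : (u.baseChange F).rTensor (F ⊗[A] Q)
      (AlgebraTensorModule.distribBaseChange A F N Q ((1 : F) ⊗ₜ[A] x)) = 0 := by
    rw [key, LinearMap.baseChange_tmul, hx, TensorProduct.tmul_zero, map_zero]
  have h2 := (injective_iff_map_eq_zero _).mp hinj _ h1
  exact (LinearEquiv.map_eq_zero_iff _).mp h2

/-- over a Noetherian ring of operators, a non zero element of a submodule has a multiple in the
submodule whose annihilator is prime -/
theorem exists_prime_ann {A₀ A : Type u} [CommRing A₀] [IsNoetherianRing A₀] [CommRing A]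
    [Algebra A₀ A] {X : Type u} [AddCommGroup X] [Module A X] (K₀ : Submodule A X) (x : X)
    (hx : x ∈ K₀) (hx0 : x ≠ 0) :
    ∃ (x₁ : X) (p₀ : Ideal A₀), x₁ ∈ K₀ ∧ x₁ ≠ 0 ∧ p₀.IsPrime ∧
      ∀ a : A₀, algebraMap A₀ A a • x₁ = 0 ↔ a ∈ p₀ := by
  classical
  let ann : X → Ideal A₀ := fun z =>
    { carrier := {a | algebraMap A₀ A a • z = 0}
      add_mem' := fun {a b} ha hb => by
        simp only [Set.mem_ofPred_eq] at *
        rw [map_add, add_smul, ha, hb, add_zero]
      zero_mem' := by simp
      smul_mem' := fun c a ha => by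
        simp only [Set.mem_ofPred_eq, smul_eq_mul, map_mul] at *
        rw [mul_smul, ha, smul_zero] }
  have hann : ∀ z a, a ∈ ann z ↔ algebraMap A₀ A a • z = 0 := fun z a => Iff.rfl
  let 𝒮 : Set (Ideal A₀) :=
    {I | ∃ a : A₀, algebraMap A₀ A a • x ≠ 0 ∧ I = ann (algebraMap A₀ A a • x)}
  have hne : 𝒮.Nonempty :=
    ⟨ann (algebraMap A₀ A 1 • x), 1, by rw [map_one, one_smul]; exact hx0, rfl⟩
  obtain ⟨p₀, ⟨a₁, ha₁, rfl⟩, hmax⟩ :=
    (set_has_maximal_iff_noetherian.mpr (inferInstance : IsNoetherian A₀ A₀)) 𝒮 hne
  refine ⟨algebraMap A₀ A a₁ • x, _, K₀.smul_mem _ hx, ha₁, ?_, fun a => (hann _ a).symm⟩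
  obtain ⟨x₁, hx₁⟩ : ∃ x₁ : X, x₁ = algebraMap A₀ A a₁ • x := ⟨_, rfl⟩
  rw [← hx₁] at ha₁ hmax ⊢
  rw [Ideal.isPrime_iff]
  refine ⟨?_, ?_⟩
  · intro htop
    have h1 : (1 : A₀) ∈ ann x₁ := htop ▸ Submodule.mem_top
    rw [hann, map_one, one_smul] at h1
    exact ha₁ h1
  · intro b c hbc
    by_contra hcon
    push Not at hcon
    obtain ⟨hb, hc⟩ := hcon
    have hb' : algebraMap A₀ A b • x₁ ≠ 0 := fun h => hb ((hann _ _).mpr h)
    have hmem : ann (algebraMap A₀ A b • x₁) ∈ 𝒮 :=
      ⟨b * a₁, by rw [map_mul, mul_smul, ← hx₁]; exact hb', by rw [map_mul, mul_smul, ← hx₁]⟩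
    have hle : ann x₁ ≤ ann (algebraMap A₀ A b • x₁) := by
      intro a ha
      rw [hann] at ha ⊢
      rw [smul_comm, ha, smul_zero]
    have heq : ann x₁ = ann (algebraMap A₀ A b • x₁) := by
      by_contra hne'
      exact hmax _ hmem (lt_of_le_of_ne hle hne')
    apply hc
    rw [heq, hann, ← mul_smul, ← map_mul, mul_comm]
    exact (hann _ _).mp hbc

/-- elements of a flat tensor product killed by finitely many scalars come from the submodule of
elements killed by these scalars -/
theorem exists_socle {A : Type u} [CommRing A] {N Q : Type u} [AddCommGroup N] [Module A N]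
    [Module.Flat A N] [AddCommGroup Q] [Module A Q] (s : Finset A) (x : N ⊗[A] Q)
    (hx : ∀ a ∈ s, a • x = 0) :
    ∃ Q' : Submodule A Q, (∀ a ∈ s, ∀ q ∈ Q', a • q = 0) ∧
      ∃ x' : N ⊗[A] Q', Q'.subtype.lTensor N x' = x := by
  classical
  let φ : Q →ₗ[A] (s → Q) := LinearMap.pi (fun a => LinearMap.lsmul A Q (a : A))
  refine ⟨LinearMap.ker φ, ?_, ?_⟩
  · intro a ha q hq
    have h1 := congrFun (LinearMap.mem_ker.mp hq) ⟨a, ha⟩
    exact h1
  · have hex := Module.Flat.lTensor_exact N (LinearMap.exact_subtype_ker_map φ)
    have key : ∀ (z : N ⊗[A] Q) (a : s),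
        (TensorProduct.piRight A A N (fun _ : s => Q)) (φ.lTensor N z) a = (a : A) • z := by
      intro z a
      induction z using TensorProduct.induction_on with
      | zero => simp
      | tmul n q =>
        rw [LinearMap.lTensor_tmul, TensorProduct.piRight_apply, TensorProduct.piRightHom_tmul]
        show n ⊗ₜ[A] ((a : A) • q) = (a : A) • (n ⊗ₜ[A] q)
        rw [TensorProduct.tmul_smul]
      | add c d hc hd => simp only [map_add, Pi.add_apply, hc, hd, smul_add]
    have h0 : φ.lTensor N x = 0 := by
      apply (TensorProduct.piRight A A N (fun _ : s => Q)).injective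
      rw [map_zero]
      funext a
      rw [key]
      exact hx a a.2
    exact (hex x).mp h0

/-- an element whose annihilator is exactly a prime `p₀`, in a module killed by `p₀`, stays non zero
after tensoring with a field which is flat over the quotient by `p₀` -/
theorem tmul_one_ne_zero {A₀ : Type u} [CommRing A₀] (p₀ : Ideal A₀) (Ω : Type u) [Field Ω]
    [Algebra A₀ Ω] [Algebra (A₀ ⧸ p₀) Ω] [IsScalarTower A₀ (A₀ ⧸ p₀) Ω]
    [Module.Flat (A₀ ⧸ p₀) Ω] {X : Type u} [AddCommGroup X] [Module A₀ X]
    (hX : ∀ a ∈ p₀, ∀ z : X, a • z = 0) (x : X) (hx : ∀ a : A₀, a • x = 0 → a ∈ p₀) :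
    x ⊗ₜ[A₀] (1 : Ω) ≠ 0 := by
  have htors : Module.IsTorsionBySet A₀ X (p₀ : Set A₀) := fun z a => hX a.1 a.2 z
  letI : Module (A₀ ⧸ p₀) X := Module.IsTorsionBySet.module htors
  haveI : IsScalarTower A₀ (A₀ ⧸ p₀) X := Module.IsTorsionBySet.isScalarTower htors
  have hρ : Function.Injective (LinearMap.toSpanSingleton (A₀ ⧸ p₀) X x) := by
    rw [injective_iff_map_eq_zero]
    intro c hc
    obtain ⟨a, rfl⟩ := Ideal.Quotient.mk_surjective c
    rw [LinearMap.toSpanSingleton_apply] at hc
    have h1 : a • x = 0 := by
      rw [← hc]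
      exact (Module.IsTorsionBySet.mk_smul htors a x).symm
    exact Ideal.Quotient.eq_zero_iff_mem.mpr (hx a h1)
  have h1 : Function.Injective ((LinearMap.toSpanSingleton (A₀ ⧸ p₀) X x).rTensor Ω) :=
    Module.Flat.rTensor_preserves_injective_linearMap _ hρ
  have h2 : x ⊗ₜ[A₀ ⧸ p₀] (1 : Ω) ≠ 0 := by
    intro h0
    have h3 : (LinearMap.toSpanSingleton (A₀ ⧸ p₀) X x).rTensor Ω
        ((1 : A₀ ⧸ p₀) ⊗ₜ[A₀ ⧸ p₀] (1 : Ω)) = 0 := by
      rw [LinearMap.rTensor_tmul, LinearMap.toSpanSingleton_apply, one_smul, h0]
    have h4 := (injective_iff_map_eq_zero _).mp h1 _ h3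
    have h5 := congrArg (TensorProduct.lid (A₀ ⧸ p₀) Ω) h4
    rw [TensorProduct.lid_tmul, one_smul, map_zero] at h5
    exact one_ne_zero h5
  intro h0
  apply h2
  have h5 := congrArg (TensorProduct.mapOfCompatibleSMul (A₀ ⧸ p₀) A₀ A₀ X Ω) h0
  rw [TensorProduct.mapOfCompatibleSMul_tmul, map_zero] at h5
  exact h5

/-- a finitely presented module over a localization is the localization of a finitely presented
module -/
theorem exists_fp_of_localization {B : Type u} [CommRing B] (T : Submonoid B) (N : Type u)
    [AddCommGroup N] [Module (Localization T) N] [Module B N] [IsScalarTower B (Localization T) N]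
    [Module.FinitePresentation (Localization T) N] :
    ∃ (N'' : Type u) (_ : AddCommGroup N'') (_ : Module B N'')
      (_ : Module.FinitePresentation B N'') (g : N'' →ₗ[B] N), IsLocalizedModule T g := by
  classical
  obtain ⟨n, m, f, g, hf, hfg⟩ := Module.FinitePresentation.exists_fin' (Localization T) N
  obtain ⟨t, ht⟩ := IsLocalization.exist_integer_multiples T
    (Finset.univ : Finset (Fin m × Fin n)) (fun uv => g (Pi.single uv.1 1) uv.2)
  choose Φ₀ hΦ₀ using fun uv : Fin m × Fin n => ht uv (Finset.mem_univ _)
  have htu : IsUnit (algebraMap B (Localization T) t) := IsLocalization.map_units _ t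
  obtain ⟨g', hg'⟩ : ∃ g' : (Fin m → Localization T) →ₗ[Localization T] (Fin n → Localization T),
      g' = (algebraMap B (Localization T) t) • g := ⟨_, rfl⟩
  have hfg' : Function.Exact g' f := by
    intro y
    rw [hfg y]
    constructor
    · rintro ⟨z, rfl⟩
      refine ⟨(htu.unit⁻¹ : (Localization T)ˣ).1 • z, ?_⟩
      rw [hg', LinearMap.smul_apply, map_smul, smul_smul]
      have : algebraMap B (Localization T) t * (htu.unit⁻¹ : (Localization T)ˣ).1 = 1 :=
        htu.mul_val_inv
      rw [this, one_smul]
    · rintro ⟨z, rfl⟩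
      refine ⟨algebraMap B (Localization T) t • z, ?_⟩
      rw [hg', LinearMap.smul_apply, map_smul]
  have hΦ : ∀ u v, algebraMap B (Localization T) (Φ₀ (u, v)) = g' (Pi.single u 1) v := by
    intro u v
    rw [hΦ₀ (u, v), hg', LinearMap.smul_apply, Pi.smul_apply, Algebra.smul_def, smul_eq_mul]
  obtain ⟨h₃, hbc⟩ := Groth.Agent.Helper3.ColimFlat.exists_isBaseChange_coker
    (fun u v => Φ₀ (u, v)) g' f hf hfg' hΦ
  refine ⟨_, inferInstance, inferInstance, ?_, h₃,
    (isLocalizedModule_iff_isBaseChange T (Localization T) h₃).mpr hbc⟩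
  refine Module.finitePresentation_of_free_of_surjective (Submodule.mkQ _)
    (Submodule.mkQ_surjective _) ?_
  rw [Submodule.ker_mkQ, LinearMap.range_eq_map]
  exact (Module.Finite.fg_top).map _

end Groth.Agent.Helper7.UnivLoc
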