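import Mathlib
import Groth.Agent.Lib.Helper7.UnivLoc.Devissage
import Groth.Agent.Lib.Helper7.UnivLoc.Reduce

set_option linter.style.haveILetI false
set_option linter.unusedVariables false
set_option linter.unusedSectionVars false
set_option autoImplicit false
set_option backward.isDefEq.respectTransparency.types false
set_option synthInstance.maxHeartbeats 400000
set_option maxHeartbeats 1600000

universe u

/-! helper7: universal injectivity of a fibrewise injective map from a flat module which is a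
localization of a finitely presented module over a finitely presented algebra, into a flat module:
assembling the Noetherian model, the socle reduction and the devissage. -/

open TensorProduct

namespace Groth.Agent.Helper7.UnivLoc

/-- goodness of the base change, from the devissage property of a model -/
theorem good_of_devProp {A F B W D B₀ : Type u} [CommRing A] [CommRing F] [CommRing B]
    [CommRing W] [CommRing D] [CommRing B₀]
    [Algebra A F] [Algebra A B] [Algebra F W] [Algebra B W] [Algebra A W]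
    [IsScalarTower A F W] [IsScalarTower A B W] [Algebra.IsPushout A F B W]
    [Algebra D W] [Algebra B₀ D] [Algebra B₀ B] [Algebra B₀ W] [IsScalarTower B₀ B W]
    [IsScalarTower B₀ D W]
    {N₀ N'' N : Type u} [AddCommGroup N₀] [Module B₀ N₀]
    [AddCommGroup N''] [Module B N''] [Module B₀ N''] [IsScalarTower B₀ B N'']
    (f₀ : N₀ →ₗ[B₀] N'') (hf₀ : IsBaseChange B f₀)
    [AddCommGroup N] [Module B N] [Module A N] [IsScalarTower A B N]
    (T : Submonoid B) (g : N'' →ₗ[B] N) [IsLocalizedModule T g]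
    (hdev : DevProp F W (W ⊗[D] (D ⊗[B₀] N₀))) :
    Good F (F ⊗[A] N) := by
  have hloc : IsLocalizedModule (Algebra.algebraMapSubmonoid W T) (g.baseChange W) := by
    haveI : IsLocalizedModule T ((g.baseChange W).restrictScalars B) := by
      have h1 := FlatAtBC.isLocalizedModule_lTensor T g W
      have h2 : (g.baseChange W).restrictScalars B = g.lTensor W :=
        LinearMap.ext fun z => congrFun (LinearMap.baseChange_eq_ltensor g) z
      rw [h2]
      exact h1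
    exact IsLocalizedModule.of_restrictScalars T (g.baseChange W)
  let e1 : W ⊗[D] (D ⊗[B₀] N₀) ≃ₗ[W] W ⊗[B₀] N₀ :=
    AlgebraTensorModule.cancelBaseChange B₀ D W W N₀
  let e2 : W ⊗[B] (B ⊗[B₀] N₀) ≃ₗ[W] W ⊗[B₀] N₀ :=
    AlgebraTensorModule.cancelBaseChange B₀ B W W N₀
  let e3 : W ⊗[B] (B ⊗[B₀] N₀) ≃ₗ[W] W ⊗[B] N'' :=
    AlgebraTensorModule.congr (LinearEquiv.refl W W) hf₀.equiv
  let jG : W ⊗[D] (D ⊗[B₀] N₀) ≃ₗ[W] W ⊗[B] N'' := e1 ≪≫ₗ e2.symm ≪≫ₗ e3
  haveI := hloc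
  have hgood : Good F (W ⊗[B] N) :=
    hdev.2 (Algebra.algebraMapSubmonoid W T) (W ⊗[B] N) ((g.baseChange W) ∘ₗ jG.toLinearMap)
  exact hgood.of_equiv (Algebra.IsPushout.cancelBaseChange A F B W N)

section Model

attribute [local instance] Algebra.TensorProduct.rightAlgebra

variable {A₀ A B B₀ : Type u} [CommRing A₀] [CommRing A] [CommRing B] [CommRing B₀]
    [Algebra A₀ A] [Algebra A B] [Algebra A₀ B₀] [Algebra B₀ B] [Algebra A₀ B]
    [IsScalarTower A₀ A B] [IsScalarTower A₀ B₀ B] [Algebra.IsPushout A₀ A B₀ B]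
    [Algebra.FiniteType A₀ B₀]

/-- goodness of the base change to `A ⊗[A₀] Ω` for an algebraically closed field `Ω` over a
Noetherian model -/
theorem good_baseChange_model (Ω : Type u) [Field Ω] [IsAlgClosed Ω] [Algebra A₀ Ω]
    {N₀ N'' N : Type u} [AddCommGroup N₀] [Module B₀ N₀] [Module.Finite B₀ N₀]
    [AddCommGroup N''] [Module B N''] [Module B₀ N''] [IsScalarTower B₀ B N'']
    (f₀ : N₀ →ₗ[B₀] N'') (hf₀ : IsBaseChange B f₀)
    [AddCommGroup N] [Module B N] [Module A N] [IsScalarTower A B N]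
    (T : Submonoid B) (g : N'' →ₗ[B] N) [IsLocalizedModule T g] :
    Good (A ⊗[A₀] Ω) ((A ⊗[A₀] Ω) ⊗[A] N) := by
  let gB₀ : B₀ →ₐ[A₀] (A ⊗[A₀] Ω) ⊗[Ω] (Ω ⊗[A₀] B₀) :=
    ((Algebra.TensorProduct.includeRight :
      (Ω ⊗[A₀] B₀) →ₐ[Ω] (A ⊗[A₀] Ω) ⊗[Ω] (Ω ⊗[A₀] B₀)).restrictScalars A₀).comp
      (Algebra.TensorProduct.includeRight : B₀ →ₐ[A₀] Ω ⊗[A₀] B₀)
  letI algB₀W : Algebra B₀ ((A ⊗[A₀] Ω) ⊗[Ω] (Ω ⊗[A₀] B₀)) := gB₀.toRingHom.toAlgebra
  haveI t1 : IsScalarTower A₀ B₀ ((A ⊗[A₀] Ω) ⊗[Ω] (Ω ⊗[A₀] B₀)) :=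
    IsScalarTower.of_algebraMap_eq (fun a => (gB₀.commutes a).symm)
  haveI t2 : IsScalarTower B₀ (Ω ⊗[A₀] B₀) ((A ⊗[A₀] Ω) ⊗[Ω] (Ω ⊗[A₀] B₀)) :=
    IsScalarTower.of_algebraMap_eq (fun b => rfl)
  let fA : A →ₐ[A₀] (A ⊗[A₀] Ω) ⊗[Ω] (Ω ⊗[A₀] B₀) := IsScalarTower.toAlgHom A₀ A _
  let ψ : B →ₐ[A₀] (A ⊗[A₀] Ω) ⊗[Ω] (Ω ⊗[A₀] B₀) :=
    Algebra.pushoutDesc B fA gB₀ (fun x y => mul_comm _ _)
  letI algBW : Algebra B ((A ⊗[A₀] Ω) ⊗[Ω] (Ω ⊗[A₀] B₀)) := ψ.toRingHom.toAlgebra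
  haveI t3 : IsScalarTower A₀ B ((A ⊗[A₀] Ω) ⊗[Ω] (Ω ⊗[A₀] B₀)) :=
    IsScalarTower.of_algebraMap_eq (fun a => (ψ.commutes a).symm)
  haveI t4 : IsScalarTower A B ((A ⊗[A₀] Ω) ⊗[Ω] (Ω ⊗[A₀] B₀)) :=
    IsScalarTower.of_algebraMap_eq (fun a =>
      (Algebra.pushoutDesc_left B fA gB₀ (fun x y => mul_comm _ _) a).symm)
  haveI t5 : IsScalarTower B₀ B ((A ⊗[A₀] Ω) ⊗[Ω] (Ω ⊗[A₀] B₀)) :=
    IsScalarTower.of_algebraMap_eq (fun b =>
      (Algebra.pushoutDesc_right B fA gB₀ (fun x y => mul_comm _ _) b).symm)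
  haveI t6 : IsScalarTower A₀ (Ω ⊗[A₀] B₀) ((A ⊗[A₀] Ω) ⊗[Ω] (Ω ⊗[A₀] B₀)) :=
    IsScalarTower.of_algebraMap_eq (fun a => by
      rw [IsScalarTower.algebraMap_apply A₀ Ω ((A ⊗[A₀] Ω) ⊗[Ω] (Ω ⊗[A₀] B₀)),
        IsScalarTower.algebraMap_apply Ω (Ω ⊗[A₀] B₀) ((A ⊗[A₀] Ω) ⊗[Ω] (Ω ⊗[A₀] B₀)),
        ← IsScalarTower.algebraMap_apply A₀ Ω (Ω ⊗[A₀] B₀)])
  haveI hp1 : Algebra.IsPushout A₀ (A ⊗[A₀] Ω) B₀ ((A ⊗[A₀] Ω) ⊗[Ω] (Ω ⊗[A₀] B₀)) :=
    (Algebra.IsPushout.comp_iff A₀ Ω B₀ (Ω ⊗[A₀] B₀)).mpr inferInstance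
  haveI hp2 : Algebra.IsPushout A (A ⊗[A₀] Ω) B ((A ⊗[A₀] Ω) ⊗[Ω] (Ω ⊗[A₀] B₀)) :=
    (Algebra.IsPushout.comp_iff A₀ A B₀ B).mp hp1
  haveI : IsNoetherianRing (Ω ⊗[A₀] B₀) := Algebra.FiniteType.isNoetherianRing Ω _
  have hdev := devissage_tensor Ω (A ⊗[A₀] Ω) (Ω ⊗[A₀] B₀) ((Ω ⊗[A₀] B₀) ⊗[B₀] N₀)
  exact good_of_devProp f₀ hf₀ T g hdev

/-- the core statement over a Noetherian model -/
theorem core [IsNoetherianRing A₀]
    {N₀ N'' N : Type u} [AddCommGroup N₀] [Module B₀ N₀] [Module.Finite B₀ N₀]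
    [AddCommGroup N''] [Module B N''] [Module B₀ N''] [IsScalarTower B₀ B N'']
    (f₀ : N₀ →ₗ[B₀] N'') (hf₀ : IsBaseChange B f₀)
    [AddCommGroup N] [Module B N] [Module A N] [IsScalarTower A B N] [Module.Flat A N]
    (T : Submonoid B) (g : N'' →ₗ[B] N) [IsLocalizedModule T g]
    {M : Type u} [AddCommGroup M] [Module A M] [Module.Flat A M] (u : N →ₗ[A] M)
    (hK : ∀ (K : Type u) [Field K] [Algebra A K], Function.Injective (u.lTensor K))
    (Q : Type u) [AddCommGroup Q] [Module A Q] : Function.Injective (u.lTensor Q) := by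
  classical
  rw [LinearMap.lTensor_inj_iff_rTensor_inj, injective_iff_map_eq_zero]
  intro x hx
  by_contra hx0
  obtain ⟨x₁, p₀, hx₁K, hx₁0, hp₀, hann⟩ := exists_prime_ann (A₀ := A₀)
    (LinearMap.ker (u.rTensor Q)) x (LinearMap.mem_ker.mpr hx) hx0
  haveI := hp₀
  have hx₁ : u.rTensor Q x₁ = 0 := LinearMap.mem_ker.mp hx₁K
  obtain ⟨s₀, hs₀⟩ := (isNoetherianRing_iff_ideal_fg A₀).mp inferInstance p₀
  obtain ⟨Q', hQ's, x', hx'⟩ := exists_socle (N := N) (s₀.image (algebraMap A₀ A)) x₁ (by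
    intro a ha
    obtain ⟨a₀, ha₀, rfl⟩ := Finset.mem_image.mp ha
    exact (hann a₀).mpr (hs₀ ▸ Ideal.subset_span ha₀))
  have hιN : Function.Injective (Q'.subtype.lTensor N) :=
    Module.Flat.lTensor_preserves_injective_linearMap Q'.subtype Q'.subtype_injective
  have hux' : u.rTensor Q' x' = 0 := by
    apply Module.Flat.lTensor_preserves_injective_linearMap (M := M) Q'.subtype
      Q'.subtype_injective
    rw [map_zero, ← LinearMap.comp_apply, LinearMap.lTensor_comp_rTensor,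
      ← LinearMap.rTensor_comp_lTensor, LinearMap.comp_apply, hx', hx₁]
  have hle : p₀ ≤ (Module.annihilator A Q').comap (algebraMap A₀ A) := by
    rw [← hs₀, Ideal.span_le]
    intro a ha
    rw [SetLike.mem_coe, Ideal.mem_comap, Module.mem_annihilator]
    intro q
    apply Subtype.ext
    exact hQ's _ (Finset.mem_image_of_mem _ ha) q q.2
  have hQ'p : ∀ a ∈ p₀, ∀ q : Q', algebraMap A₀ A a • q = 0 := fun a ha q =>
    Module.mem_annihilator.mp (Ideal.mem_comap.mp (hle ha)) q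
  have hannx' : ∀ a : A₀, algebraMap A₀ A a • x' = 0 → a ∈ p₀ := by
    intro a ha
    apply (hann a).mp
    rw [← hx', ← map_smul, ha, map_zero]
  have hx'0 : x' ≠ 0 := fun h => hx₁0 (by rw [← hx', h, map_zero])
  -- the field
  letI modX : Module A₀ (N ⊗[A] Q') := Module.compHom (N ⊗[A] Q') (algebraMap A₀ A)
  haveI towX : IsScalarTower A₀ A (N ⊗[A] Q') := IsScalarTower.of_compHom A₀ A (N ⊗[A] Q')
  haveI : Module.Flat (A₀ ⧸ p₀) (AlgebraicClosure (FractionRing (A₀ ⧸ p₀))) :=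
    Module.Flat.trans (A₀ ⧸ p₀) (FractionRing (A₀ ⧸ p₀)) _
  have hX : ∀ a ∈ p₀, ∀ z : N ⊗[A] Q', a • z = 0 := by
    intro a ha z
    show algebraMap A₀ A a • z = 0
    induction z using TensorProduct.induction_on with
    | zero => simp
    | tmul n q => rw [← TensorProduct.tmul_smul, hQ'p a ha q, TensorProduct.tmul_zero]
    | add c d hc hd => rw [smul_add, hc, hd, add_zero]
  have hne := tmul_one_ne_zero p₀ (AlgebraicClosure (FractionRing (A₀ ⧸ p₀))) hX x' hannx'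
  have hgood := good_baseChange_model (A₀ := A₀) (A := A)
    (AlgebraicClosure (FractionRing (A₀ ⧸ p₀))) f₀ hf₀ T g
  have hz := tmul_eq_zero_of_good_baseChange u hK hgood Q' x' hux'
  apply hne
  have h1 := congrArg (fun w => AlgebraTensorModule.cancelBaseChange A₀ A A (N ⊗[A] Q')
    (AlgebraicClosure (FractionRing (A₀ ⧸ p₀)))
    (TensorProduct.comm A (A ⊗[A₀] (AlgebraicClosure (FractionRing (A₀ ⧸ p₀)))) (N ⊗[A] Q') w)) hz
  simp only [TensorProduct.comm_tmul, Algebra.TensorProduct.one_def,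
    AlgebraTensorModule.cancelBaseChange_tmul, one_smul, map_zero] at h1
  exact h1

end Model

/-- the statement: universal injectivity of a fibrewise injective map from a flat localization of
a finitely presented module over a finitely presented algebra into a flat module -/
theorem main {A B : Type u} [CommRing A] [CommRing B] [Algebra A B]
    [Algebra.FinitePresentation A B] (T : Submonoid B) (N : Type u) [AddCommGroup N]
    [Module (Localization T) N] [Module A N] [IsScalarTower A (Localization T) N]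
    [Module.FinitePresentation (Localization T) N] [Module.Flat A N]
    (M : Type u) [AddCommGroup M] [Module A M] [Module.Flat A M] (u : N →ₗ[A] M)
    (h : ∀ (p : Ideal A) [p.IsPrime], Function.Injective (u.lTensor p.ResidueField))
    (Q : Type u) [AddCommGroup Q] [Module A Q] : Function.Injective (u.lTensor Q) := by
  letI : Module B N := Module.compHom N (algebraMap B (Localization T))
  haveI : IsScalarTower B (Localization T) N := IsScalarTower.of_compHom B (Localization T) N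
  haveI : IsScalarTower A B N := ⟨fun a b n => by
    show algebraMap B (Localization T) (a • b) • n = a • (algebraMap B (Localization T) b • n)
    rw [Algebra.smul_def a b, map_mul, ← IsScalarTower.algebraMap_apply A B (Localization T),
      mul_smul, algebraMap_smul]⟩
  obtain ⟨N'', _, _, _, g, hg⟩ := exists_fp_of_localization T N
  obtain ⟨R₀, hR₀, B₀, _, _, _, _, N₀, _, _, _, _, f₀, hfp, hfin, hpush, hbc⟩ :=
    Groth.Agent.Helper3.ColimFlat.exists_model A B N''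
  haveI : Algebra.FiniteType ℤ R₀ := (Subalgebra.fg_iff_finiteType R₀).mp hR₀
  haveI : IsNoetherianRing R₀ := Algebra.FiniteType.isNoetherianRing ℤ R₀
  exact core (A₀ := R₀) f₀ hbc T g u (injective_lTensor_of_residueField u h) Q

end Groth.Agent.Helper7.UnivLoc
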